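import Cfsg.Agent.H462.S5554.Quo
import Cfsg.Agent.H61.PSUMult

/-!
# S5554, TT8: a unitary class with `O₂(H) = 1`, `3 ∤ n` : `H = SU_n(2)`
-/

set_option autoImplicit false

namespace Cfsg.Agent.H462.S5554.IsoSU

open Subgroup Cfsg Cfsg.Agent.H854 Cfsg.Agent.H854.TM Cfsg.Agent.H854.ClassBasic
open Cfsg.Agent.SporadicStructure.FischerSpace Cfsg.Agent.Fischer480.Defs Cfsg.Agent.H462.S5554.Quo

universe u

variable {H : Type u} [Group H] {E : Set H}

/-- squares of a group generated by a class of involutions lie in the commutator subgroup -/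
theorem sq_mem (h : Cls E) (g : H) : g * g ∈ commutator H := by
  obtain ⟨x, hx⟩ := h.nonempty
  have key : ∀ y ∈ E, Abelianization.of y = Abelianization.of x := by
    intro y hy
    obtain ⟨k, hk⟩ := h.trans x hx y hy
    rw [← hk, map_mul, map_mul, map_inv, mul_comm (Abelianization.of k), mul_inv_cancel_right]
  have h1 : ∀ k : H, Abelianization.of k * Abelianization.of k = 1 := by
    intro k
    have hk : k ∈ closure E := by rw [h.gen]; exact mem_top k
    induction hk using closure_induction with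
    | mem y hy => rw [← map_mul, h.sq y hy, map_one]
    | one => rw [map_one, one_mul]
    | mul a b _ _ iha ihb => rw [map_mul, mul_mul_mul_comm, iha, ihb, one_mul]
    | inv a _ ih => rw [map_inv, ← mul_inv_rev, ih, inv_one]
  rw [← Abelianization.ker_of, MonoidHom.mem_ker, map_mul]
  exact h1 g

variable [Finite H]

/-- the centre has odd order -/
theorem odd_center (hO : Cfsg.pCore 2 H = ⊥) : ¬ 2 ∣ Nat.card (center H) := by
  intro h2
  obtain ⟨z, hz⟩ := exists_prime_orderOf_dvd_card' 2 h2
  have hz' : orderOf (z : H) = 2 := by rw [← hz]; exact orderOf_coe z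
  have hn : (zpowers (z : H)).Normal := by
    refine ⟨fun x hx g => ?_⟩
    obtain ⟨k, rfl⟩ := mem_zpowers_iff.1 hx
    have h1 : (z : H) ^ k ∈ center H := zpow_mem z.2 k
    rw [mem_center_iff.1 h1 g, mul_inv_cancel_right]
    exact hx
  have hp : IsPGroup 2 ↥(zpowers (z : H)) := IsPGroup.of_card (n := 1) (by rw [Nat.card_zpowers, hz', pow_one])
  have h1 : zpowers (z : H) ≤ Cfsg.pCore 2 H := le_sSup ⟨hn, hp⟩
  rw [hO, le_bot_iff, zpowers_eq_bot] at h1
  rw [h1, orderOf_one] at hz'
  omega

/-- **`H = SU_n(2)`** -/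
theorem iso_su (h : Cls E) (hO : Cfsg.pCore 2 H = ⊥) {n : ℕ} (hn : 4 ≤ n) (h3 : ¬ 3 ∣ n) (hU : IsU n E) :
    ∃ (F : Type) (_ : Field F) (_ : Fintype F), Fintype.card F = 4 ∧ Nonempty (H ≃* ↥(Cfsg.SU n F 2)) := by
  obtain ⟨F, i1, i2, hF, e, -⟩ := exists_psu h hn hU
  refine ⟨F, i1, i2, hF, ?_⟩
  have hF' : Fintype.card F = 2 ^ 2 := by rw [hF]; norm_num
  -- the centre of `SU`
  have hc : center (SU n F 2) = ⊥ := by
    have h1 := Cfsg.Agent.S0279.result (q := 2) hF' n (by omega)
    have h2 : Nat.gcd n (2 + 1) = 1 := (Nat.Prime.coprime_iff_not_dvd Nat.prime_three).2 h3 |>.symm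
    rw [h2] at h1
    exact card_eq_one.1 h1
  have hinj : Function.Injective (QuotientGroup.mk' (center (SU n F 2))) := by
    rw [← MonoidHom.ker_eq_bot_iff, QuotientGroup.ker_mk', hc]
  let e2 : SU n F 2 ≃* PSU n F 2 := MulEquiv.ofBijective (QuotientGroup.mk' (center (SU n F 2)))
    ⟨hinj, QuotientGroup.mk'_surjective _⟩
  let f : H →* SU n F 2 := (e2.symm.toMonoidHom.comp e.toMonoidHom).comp (QuotientGroup.mk' (center H))
  have hf : Function.Surjective f := (e2.symm.surjective.comp e.surjective).comp (QuotientGroup.mk'_surjective _)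
  have hker : ∀ x, f x = 1 → x ∈ center H := by
    intro x hx
    have h1 : e2.symm (e (QuotientGroup.mk' (center H) x)) = 1 := hx
    rw [EmbeddingLike.map_eq_one_iff, EmbeddingLike.map_eq_one_iff] at h1
    exact (QuotientGroup.eq_one_iff x).1 h1
  have hodd := odd_center hO
  have hperfS : commutator (SU n F 2) = ⊤ :=
    LieClassical.HermPerfect.commutator_SU_eq_top hF' (by omega) (by omega)
  -- `H` is perfect
  have hperf : commutator H = ⊤ := by
    rw [eq_top_iff]
    intro g _
    have h1 : f g ∈ (commutator H).map f := by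
      have h2 : (commutator H).map f = commutator (SU n F 2) := by
        rw [commutator_def, map_commutator, Subgroup.map_top_of_surjective f hf, ← commutator_def]
      rw [h2, hperfS]
      exact mem_top _
    obtain ⟨c, hc1, hc2⟩ := h1
    have h2 : c⁻¹ * g ∈ center H := hker _ (by rw [map_mul, map_inv, hc2, inv_mul_cancel])
    obtain ⟨z, hz⟩ : ∃ z : center H, (z : H) = c⁻¹ * g := ⟨⟨_, h2⟩, rfl⟩
    have h4 : (z : H) ∈ commutator H := by
      obtain ⟨k, hk⟩ : Odd (Nat.card (center H)) := Nat.not_even_iff_odd.1 fun hev => hodd hev.two_dvd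
      have h5 : z ^ (2 * k + 1) = 1 := by rw [← hk]; exact pow_card_eq_one'
      have h6 : (z : H) * ((z : H) * z) ^ k = 1 := by
        have h7 := congrArg (fun t : center H => (t : H)) h5
        simp only [coe_pow, coe_one] at h7
        rw [← pow_two, ← pow_mul, ← pow_succ']
        exact h7
      rw [eq_inv_of_mul_eq_one_left h6]
      exact inv_mem (pow_mem (sq_mem h _) k)
    have h5 : g = c * z := by rw [hz, mul_inv_cancel_left]
    rw [h5]
    exact mul_mem hc1 h4
  have hkle : f.ker ≤ center H := fun x hx => hker x hx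
  have hK : Nat.card f.ker = 1 := by
    by_contra hne
    obtain ⟨r, hr, hdvd⟩ := Nat.exists_prime_and_dvd hne
    have hr2 : r ≠ 2 := by
      rintro rfl
      exact hodd (hdvd.trans (card_dvd_of_le hkle))
    have : CharP F 2 := by
      obtain ⟨p, a, hp, hch, hq, ha⟩ := Cfsg.Agent.LieClassical.HermBasic.exists_prime_pow hF'
      have hpp : p ∣ 2 := hq ▸ dvd_pow_self p ha.ne'
      rw [(Nat.prime_dvd_prime_iff_eq hp Nat.prime_two).1 hpp] at hch
      exact hch
    exact (Cfsg.Agent.H61.PSUMult.noPCov_cross hF' (by omega) Nat.prime_two hr hr2).not_dvd_card_ker hr hperf hf hkle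
      hdvd
  have hinj : Function.Injective f := by
    rw [← MonoidHom.ker_eq_bot_iff]
    exact card_eq_one.1 hK
  exact ⟨MulEquiv.ofBijective f ⟨hinj, hf⟩⟩

end Cfsg.Agent.H462.S5554.IsoSU
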