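import Cfsg.Agent.H462.S5554.Quo
import Cfsg.Agent.H854.UBlock
import Cfsg.Agent.LieClassical.SUBasic

/-!
# S5554, TT4: unitary classes, `3 ∣ n` : `C_H(x) = K_x Z(H)` and `ζ ∈ K_x Z(H)`

* `stab_le_Ku` : in dimension at least six the stabiliser of an isotropic vector is generated by transvections;
* `mem_of_comm` : `g x = x g → g ∈ K_x Z(H)`;
* `zeta_mem_u`.
-/

set_option autoImplicit false
set_option linter.unusedSectionVars false

namespace Cfsg.Agent.H462.S5554.ZetaU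

open Subgroup Cfsg Cfsg.Agent.H854 Cfsg.Agent.H854.TM Cfsg.Agent.H854.ClassBasic Cfsg.Agent.H854.Ab
open Cfsg.Agent.SporadicStructure.FischerSpace Cfsg.Agent.Fischer480.Defs Cfsg.Agent.H462.S5554.Quo
open Cfsg.Agent.LieClassical.HermBasic Cfsg.Agent.ClassicalGeometry.UnitTransv
open Cfsg.Agent.SporadicStructure.UnitTwo Cfsg.Agent.H854.UForm Cfsg.Agent.H854.UGeo
open Cfsg.Agent.H854.UStab Cfsg.Agent.H854.UBlock

section SU

variable {F : Type*} [Field F] [Fintype F] {n : ℕ} (hF : Fintype.card F = 2 ^ 2)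
include hF

/-- conjugates of `Ku` -/
theorem conj_Ku {u : Fin n → F} (g : SU n F 2) {k : SU n F 2} (hk : k ∈ Ku hF u) :
    g * k * g⁻¹ ∈ Ku hF (act g u) := by
  unfold Ku at hk
  induction hk using closure_induction with
  | mem y hy =>
    obtain ⟨x, hx, hx0, hxu, rfl⟩ := hy
    have h1 : hermForm n F 2 (act g x) (act g x) = 0 := by rw [herm_act, hx]
    rw [conj_T hF g x hx h1]
    apply T_mem_Ku
    rw [herm_act, hxu]
  | one => rw [mul_one, mul_inv_cancel]; exact one_mem _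
  | mul a b _ _ iha ihb =>
    have e : g * (a * b) * g⁻¹ = (g * a * g⁻¹) * (g * b * g⁻¹) := by group
    rw [e]; exact mul_mem iha ihb
  | inv a _ ih =>
    have e : g * a⁻¹ * g⁻¹ = (g * a * g⁻¹)⁻¹ := by group
    rw [e]; exact inv_mem ih

/-- in dimension at least six the stabiliser of an isotropic vector is generated by transvections -/
theorem stab_le_Ku (hn : 6 ≤ n) {v : Fin n → F} (hv : hermForm n F 2 v v = 0) (hv0 : v ≠ 0) : stab v ≤ Ku hF v := by
  obtain ⟨m, rfl⟩ : ∃ m, n = m + 2 := ⟨n - 2, by omega⟩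
  have hu0 : (e 0 + e 1 : Fin (m + 2) → F) ≠ 0 := by
    intro h0
    have h1 := congrFun h0 0
    have h01 : (0 : Fin (m + 2)) ≠ 1 := by
      intro h; have := congrArg Fin.val h; simp at this
    rw [Pi.add_apply, e_self, e_ne h01, add_zero] at h1
    exact one_ne_zero h1
  obtain ⟨g, hg⟩ := iso_trans hF (by omega) (u_iso hF) hu0 hv hv0
  intro k hk
  have h1 : g⁻¹ * k * g ∈ stab (e 0 + e 1 : Fin (m + 2) → F) := by
    rw [mem_stab, act_mul, act_mul, hg, mem_stab.1 hk, ← hg, act_inv_act]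
  have h2 := conj_Ku hF g (stab_le hF (by omega) h1)
  have e1 : g * (g⁻¹ * k * g) * g⁻¹ = k := by group
  rwa [e1, hg] at h2

theorem act_suScalar {c : F} (hcn : c ^ n = 1) (hcq : c ^ (2 + 1) = 1) (x : Fin n → F) :
    act (LieClassical.SUBasic.suScalar 2 c hcn hcq) x = c • x := by
  rw [act_def, LieClassical.SUBasic.coe_suScalar]
  funext i
  rw [Matrix.mulVec_diagonal, Pi.smul_apply, smul_eq_mul]

/-- centralisers of transvections modulo scalars -/
theorem mem_of_comm_mod (hn : 6 ≤ n) (h3 : 3 ∣ n) {v : Fin n → F} (hv : hermForm n F 2 v v = 0) (hv0 : v ≠ 0)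
    {g : SU n F 2} (hg : g * T hF v hv * g⁻¹ * (T hF v hv)⁻¹ ∈ center (SU n F 2)) :
    ∃ z ∈ center (SU n F 2), ∃ k ∈ Ku hF v, g = z * k := by
  obtain ⟨t, ht⟩ : ∃ t, t = T hF v hv := ⟨_, rfl⟩
  rw [← ht] at hg
  obtain ⟨z, hz⟩ : ∃ z, z = g * t * g⁻¹ * t⁻¹ := ⟨_, rfl⟩
  rw [← hz] at hg
  have htt : t * t = 1 := by rw [ht]; exact T_mul_self hF v hv
  obtain ⟨c, hcn, hcq, hzc⟩ := (LieClassical.SUBasic.mem_center_SU_iff hF (by omega) z).1 hg
  have hgt : g * t * g⁻¹ = z * t := by rw [hz]; group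
  have hz2 : z * z = 1 := by
    have h1 : (z * t) * (z * t) = 1 := by
      rw [← hgt]
      calc g * t * g⁻¹ * (g * t * g⁻¹) = g * (t * t) * g⁻¹ := by group
        _ = 1 := by rw [htt, mul_one, mul_inv_cancel]
    calc z * z = z * (z * (t * t)) := by rw [htt, mul_one]
      _ = z * (z * t) * t := by simp only [mul_assoc]
      _ = z * (t * z) * t := by rw [mem_center_iff.1 hg t]
      _ = (z * t) * (z * t) := by simp only [mul_assoc]
      _ = 1 := h1
  have hc1 : c = 1 := by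
    have h1 := congrArg (fun k => act k v) hz2
    simp only [act_mul, act_one] at h1
    rw [hzc, act_suScalar hF, act_suScalar hF, smul_smul] at h1
    have h2 : c * c = 1 := by
      have h4 : (c * c - 1) • v = 0 := by rw [sub_smul, one_smul, h1, sub_self]
      rcases smul_eq_zero.1 h4 with h5 | h5
      · linear_combination h5
      · exact absurd h5 hv0
    linear_combination hcq - c * h2
  have hz1 : z = 1 := by
    rw [hzc]
    apply ext_act
    intro x
    rw [act_suScalar hF, hc1, one_smul, act_one]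
  rw [hz1, one_mul] at hgt
  have h1 : hermForm n F 2 (act g v) (act g v) = 0 := by rw [herm_act, hv]
  have hgv0 : act g v ≠ 0 := by
    intro h0
    apply hv0
    rw [← act_inv_act g v, h0, act_zero]
  rw [ht, conj_T hF g v hv h1] at hgt
  obtain ⟨d, hd⟩ := Cfsg.Agent.Fischer920.PsuEnd.smul_of_T_eq hF h1 hv hgv0 hgt
  have hd0 : d ≠ 0 := by
    rintro rfl
    rw [zero_smul] at hd
    exact hgv0 hd
  have hd3 := pow_three hF hd0
  obtain ⟨k, rfl⟩ := h3
  have hdn : d ^ (3 * k) = 1 := by rw [pow_mul, hd3, one_pow]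
  refine ⟨LieClassical.SUBasic.suScalar 2 d hdn hd3, LieClassical.SUBasic.suScalar_mem_center 2 d hdn hd3,
    (LieClassical.SUBasic.suScalar 2 d hdn hd3)⁻¹ * g, stab_le_Ku hF hn hv hv0 ?_, by rw [mul_inv_cancel_left]⟩
  rw [mem_stab, act_mul, hd, ← act_suScalar hF hdn hd3, act_inv_act]

end SU

universe u

variable {H : Type u} [Group H] {E : Set H}

/-- **the centraliser of a member of a unitary class, `3 ∣ n`** -/
theorem mem_of_comm (h : Cls E) {n : ℕ} (hn : 4 ≤ n) (h3 : 3 ∣ n) (hU : IsU n E) {x g : H} (hx : x ∈ E)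
    (hg : g * x = x * g) : g ∈ Kd E x ⊔ center H := by
  have hn6 : 6 ≤ n := by omega
  obtain ⟨F, i1, i2, hF4, ε, hε⟩ := exists_psu h hn hU
  have hF : Fintype.card F = 2 ^ 2 := by rw [hF4]; norm_num
  set π : H →* H ⧸ center H := QuotientGroup.mk' (center H) with hπ
  set ρ : SU n F 2 →* PSU n F 2 := QuotientGroup.mk' (center (SU n F 2)) with hρ
  have hmemE : ∀ y : H, y ∈ E → ∃ (v : Fin n → F) (hv : hermForm n F 2 v v = 0), v ≠ 0 ∧ ε (π y) = ρ (T hF v hv) := by
    intro y hy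
    have h1 : ε (π y) ∈ ε '' (π '' E) := ⟨_, ⟨y, hy, rfl⟩, rfl⟩
    rw [hε] at h1
    obtain ⟨t, ht, h2⟩ := h1
    obtain ⟨v, hv, hv0, rfl⟩ := (rank_one_iff hF t).1 ht
    exact ⟨v, hv, hv0, h2.symm⟩
  have hE : ∀ (v : Fin n → F) (hv : hermForm n F 2 v v = 0), v ≠ 0 → ∃ y ∈ E, ε (π y) = ρ (T hF v hv) := by
    intro v hv hv0
    have h1 : ρ (T hF v hv) ∈ ε '' (π '' E) := by
      rw [hε]
      exact ⟨T hF v hv, (rank_one_iff hF _).2 ⟨v, hv, hv0, rfl⟩, rfl⟩
    obtain ⟨_, ⟨y, hy, rfl⟩, h2⟩ := h1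
    exact ⟨y, hy, h2⟩
  obtain ⟨v, hv, hv0, hxv⟩ := hmemE x hx
  obtain ⟨G0, hG0⟩ := QuotientGroup.mk'_surjective (center (SU n F 2)) (ε (π g))
  have hcen : G0 * T hF v hv * G0⁻¹ * (T hF v hv)⁻¹ ∈ center (SU n F 2) := by
    refine (QuotientGroup.eq_one_iff _).1 ?_
    show ρ (G0 * T hF v hv * G0⁻¹ * (T hF v hv)⁻¹) = 1
    rw [map_mul, map_mul, map_mul, map_inv, map_inv, ← hxv]
    have h1 : ρ G0 = ε (π g) := hG0
    rw [h1, ← map_mul, ← map_mul, hg, map_mul, map_mul]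
    group
  obtain ⟨z, hz, k, hk, hG⟩ := mem_of_comm_mod hF hn6 h3 hv hv0 hcen
  -- the image of `Ku`
  have key : ∀ k ∈ Ku hF v, ∃ l ∈ Kd E x, ε (π l) = ρ k := by
    intro k hk
    unfold Ku at hk
    induction hk using closure_induction with
    | mem y hy =>
      obtain ⟨w, hw, hw0, hwv, rfl⟩ := hy
      obtain ⟨d, hd, h1⟩ := hE w hw hw0
      refine ⟨d, subset_closure ⟨hd, ?_⟩, h1⟩
      refine ((quo_comm h hx hd).1 ?_)
      apply ε.injective
      rw [map_mul, map_mul]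
      change ε (π x) * ε (π d) = ε (π d) * ε (π x)
      rw [h1, hxv, ← map_mul, ← map_mul, comm_T hF hv hw (herm_eq_zero_swap hF hwv)]
    | one => exact ⟨1, one_mem _, by rw [map_one, map_one, map_one]⟩
    | mul a b _ _ iha ihb =>
      obtain ⟨l, hl, h1⟩ := iha
      obtain ⟨l', hl', h2⟩ := ihb
      exact ⟨l * l', mul_mem hl hl', by rw [map_mul, map_mul, map_mul, h1, h2]⟩
    | inv a _ ih =>
      obtain ⟨l, hl, h1⟩ := ih
      exact ⟨l⁻¹, inv_mem hl, by rw [map_inv, map_inv, map_inv, h1]⟩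
  obtain ⟨l, hl, h1⟩ := key k hk
  have h2 : π g = π l := by
    apply ε.injective
    rw [h1]
    have h4 : ε (π g) = ρ G0 := hG0.symm
    have h5 : ρ z = 1 := (QuotientGroup.eq_one_iff z).2 hz
    rw [h4, hG, map_mul, h5, one_mul]
  have h3' : l⁻¹ * g ∈ center H := QuotientGroup.eq.1 h2.symm
  have h4 : g = l * (l⁻¹ * g) := by rw [mul_inv_cancel_left]
  rw [h4]
  exact mul_mem (mem_sup_left hl) (mem_sup_right h3')

/-- `ζ` centralises the points of the plane -/
theorem zeta_comm (h : Cls E) {x a b : H} (A : Aff E x a b) : Aff.zeta x a b * x = x * Aff.zeta x a b := by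
  have hxx := h.sq x A.hf
  have haa := h.sq a A.hg
  have hbb := h.sq b A.hh
  have h1 := h.cube A.hf A.hg A.fg
  have h2 := h.cube A.hf A.hh A.fh
  have hD : x * a * x ∈ E := by
    have := h.conj x a A.hg
    rwa [inv_of_sq hxx] at this
  have h3 : ((x * a) * (x * b)) * ((x * a) * (x * b)) * ((x * a) * (x * b)) = 1 := by
    have := h.cube hD A.hh A.fgfh
    have e : (x * a) * (x * b) = (x * a * x) * b := by simp only [mul_assoc]
    rw [e]
    exact this
  have h4 : ((x * a)⁻¹ * (x * b)) * ((x * a)⁻¹ * (x * b)) * ((x * a)⁻¹ * (x * b)) = 1 := by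
    have e : (x * a)⁻¹ * (x * b) = a * b := by
      rw [mul_inv_rev, inv_of_sq hxx, inv_of_sq haa]
      calc a * x * (x * b) = a * (x * x) * b := by simp only [mul_assoc]
        _ = a * b := by rw [hxx, mul_one]
    rw [e]
    exact h.cube A.hg A.hh A.gh
  obtain ⟨c1, c2, -⟩ := TM.zeta_spec h1 h2 h3 h4
  have e1 : x * (x * a) * x = (x * a)⁻¹ := by rw [← mul_assoc, hxx, one_mul, mul_inv_rev, inv_of_sq hxx, inv_of_sq haa]
  have e2 : x * (x * b) * x = (x * b)⁻¹ := by rw [← mul_assoc, hxx, one_mul, mul_inv_rev, inv_of_sq hxx, inv_of_sq hbb]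
  unfold Aff.zeta
  generalize x * a = s at *
  generalize x * b = t at *
  have e3 : x * s⁻¹ * x = s := by rw [← e1]; simp only [← mul_assoc, hxx]; simp only [mul_assoc, hxx, mul_one, one_mul]
  have e4 : x * t⁻¹ * x = t := by rw [← e2]; simp only [← mul_assoc, hxx]; simp only [mul_assoc, hxx, mul_one, one_mul]
  have e5 : x * (s * t * s⁻¹ * t⁻¹) * x = s⁻¹ * t⁻¹ * s * t := by
    calc x * (s * t * s⁻¹ * t⁻¹) * x = (x * s * (x * x) * t * (x * x) * s⁻¹ * (x * x) * t⁻¹ * x) := by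
          rw [hxx]; simp only [mul_one, mul_assoc]
      _ = (x * s * x) * (x * t * x) * (x * s⁻¹ * x) * (x * t⁻¹ * x) := by simp only [mul_assoc]
      _ = _ := by rw [e1, e2, e3, e4]
  have e6 : s⁻¹ * t⁻¹ * s * t = s * t * s⁻¹ * t⁻¹ := by
    have c3 : Commute (t * s) (s * t * s⁻¹ * t⁻¹) := c2.mul_left c1
    have e7 : (s * t * s⁻¹ * t⁻¹) * (t * s) = s * t := by group
    have e8 : (t * s) * (s * t * s⁻¹ * t⁻¹) = s * t := by rw [c3.eq, e7]
    calc s⁻¹ * t⁻¹ * s * t = (t * s)⁻¹ * (s * t) := by group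
      _ = (t * s)⁻¹ * ((t * s) * (s * t * s⁻¹ * t⁻¹)) := by rw [e8]
      _ = _ := by rw [inv_mul_cancel_left]
  rw [e6] at e5
  generalize s * t * s⁻¹ * t⁻¹ = z at *
  calc z * x = (x * z * x) * x := by rw [e5]
    _ = x * z * (x * x) := by simp only [mul_assoc]
    _ = x * z := by rw [hxx, mul_one]

/-- **TT4** -/
theorem zeta_mem_u (h : Cls E) {n : ℕ} (hn : 4 ≤ n) (h3 : 3 ∣ n) (hU : IsU n E) {x a b : H} (A : Aff E x a b) :
    Aff.zeta x a b ∈ Kd E x ⊔ Subgroup.center H :=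
  mem_of_comm h hn h3 hU A.hf (zeta_comm h A)

end Cfsg.Agent.H462.S5554.ZetaU
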